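import Mathlib

set_option autoImplicit false
universe u

open MvPolynomial

namespace Groth.Agent.SqFreeDecompLib

variable {k : Type u} [CommRing k] {σ : Type*}

theorem span_mono_eq (S : Set (MvPolynomial σ k)) (T : Set (σ →₀ ℕ))
    (h : S = (fun s => monomial s (1 : k)) '' T) (f : MvPolynomial σ k) :
    f ∈ Ideal.span S ↔ ∀ xi ∈ f.support, ∃ si ∈ T, si ≤ xi := by
  rw [h]; exact mem_ideal_span_monomial_image

theorem single_add_le {p q : σ} (hpq : p ≠ q) (e : σ →₀ ℕ) :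
    Finsupp.single p 1 + Finsupp.single q 1 ≤ e ↔ 1 ≤ e p ∧ 1 ≤ e q := by
  classical
  constructor
  · intro h
    exact ⟨by simpa [hpq] using h p, by simpa [hpq.symm] using h q⟩
  · rintro ⟨hp, hq⟩ x
    rcases eq_or_ne x p with rfl | h1
    · simpa [hpq] using hp
    rcases eq_or_ne x q with rfl | h2
    · simpa [h1] using hq
    simp [h1.symm, h2.symm]

theorem decomp (n k0 e1 e2 : ℕ) (hn : 2 * k0 ≤ n + 1) (he : e1 ≤ e2) (he2 : e2 + 1 ≤ k0) :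
    Ideal.span ({f : MvPolynomial (Fin (n + 1)) k | ∃ p q : Fin (n + 1), e1 ≤ p.val ∧ p.val ≤ e2 ∧ e1 ≤ q.val ∧ q.val ≤ e2 ∧
        f = X p * X q} ∪
      {f : MvPolynomial (Fin (n + 1)) k | ∃ p q m : Fin (n + 1), e1 ≤ p.val ∧ p.val < q.val ∧ q.val ≤ e2 ∧
        m.val + k0 = n + 1 + q.val ∧ f = X p * X m}) =
    ⨅ j : Fin (n + 1), ⨅ (_ : e1 ≤ j.val ∧ j.val ≤ e2),
      Ideal.span ({f : MvPolynomial (Fin (n + 1)) k | ∃ i : Fin (n + 1), e1 ≤ i.val ∧ i.val ≤ e2 ∧ i ≠ j ∧ f = X i} ∪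
        {X j ^ 2} ∪
        {f : MvPolynomial (Fin (n + 1)) k | ∃ q m : Fin (n + 1), j.val < q.val ∧ q.val ≤ e2 ∧ m.val + k0 = n + 1 + q.val ∧
          f = X m}) := by
  classical
  have hXX : ∀ p q : Fin (n + 1), (X p * X q : MvPolynomial (Fin (n + 1)) k) = monomial (Finsupp.single p 1 + Finsupp.single q 1) 1 := by
    intro p q; simp [X, monomial_mul]
  set TL : Set (Fin (n + 1) →₀ ℕ) := {e | ∃ p q : Fin (n + 1), e1 ≤ p.val ∧ p.val ≤ e2 ∧ e1 ≤ q.val ∧ q.val ≤ e2 ∧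
        e = Finsupp.single p 1 + Finsupp.single q 1} ∪
      {e | ∃ p q m : Fin (n + 1), e1 ≤ p.val ∧ p.val < q.val ∧ q.val ≤ e2 ∧
        m.val + k0 = n + 1 + q.val ∧ e = Finsupp.single p 1 + Finsupp.single m 1}
  set TR : Fin (n + 1) → Set (Fin (n + 1) →₀ ℕ) := fun j =>
    {e | ∃ i : Fin (n + 1), e1 ≤ i.val ∧ i.val ≤ e2 ∧ i ≠ j ∧ e = Finsupp.single i 1} ∪ {Finsupp.single j 2} ∪
      {e | ∃ q m : Fin (n + 1), j.val < q.val ∧ q.val ≤ e2 ∧ m.val + k0 = n + 1 + q.val ∧ e = Finsupp.single m 1}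
  ext f
  rw [span_mono_eq _ TL ?hl, Submodule.mem_iInf]
  case hl =>
    ext g
    simp only [Set.mem_union, Set.mem_setOf_eq, Set.mem_image, TL]
    constructor
    · rintro (⟨p, q, a, b, c, d, rfl⟩ | ⟨p, q, m, a, b, c, d, rfl⟩)
      · exact ⟨_, Or.inl ⟨p, q, a, b, c, d, rfl⟩, (hXX p q).symm⟩
      · exact ⟨_, Or.inr ⟨p, q, m, a, b, c, d, rfl⟩, (hXX p m).symm⟩
    · rintro ⟨e, (⟨p, q, a, b, c, d, rfl⟩ | ⟨p, q, m, a, b, c, d, rfl⟩), rfl⟩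
      · exact Or.inl ⟨p, q, a, b, c, d, (hXX p q).symm⟩
      · exact Or.inr ⟨p, q, m, a, b, c, d, (hXX p m).symm⟩
  have hR : ∀ j : Fin (n + 1), ({f : MvPolynomial (Fin (n + 1)) k | ∃ i : Fin (n + 1), e1 ≤ i.val ∧ i.val ≤ e2 ∧ i ≠ j ∧ f = X i} ∪
        {X j ^ 2} ∪
        {f : MvPolynomial (Fin (n + 1)) k | ∃ q m : Fin (n + 1), j.val < q.val ∧ q.val ≤ e2 ∧ m.val + k0 = n + 1 + q.val ∧
          f = X m}) = (fun s => monomial s (1 : k)) '' TR j := by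
    intro j
    ext g
    simp only [Set.mem_union, Set.mem_setOf_eq, Set.mem_image, Set.mem_singleton_iff, TR]
    constructor
    · rintro ((⟨i, a, b, c, rfl⟩ | rfl) | ⟨q, m, a, b, c, rfl⟩)
      · exact ⟨_, Or.inl (Or.inl ⟨i, a, b, c, rfl⟩), rfl⟩
      · exact ⟨_, Or.inl (Or.inr rfl), by rw [X_pow_eq_monomial]⟩
      · exact ⟨_, Or.inr ⟨q, m, a, b, c, rfl⟩, rfl⟩
    · rintro ⟨e, ((⟨i, a, b, c, rfl⟩ | rfl) | ⟨q, m, a, b, c, rfl⟩), rfl⟩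
      · exact Or.inl (Or.inl ⟨i, a, b, c, rfl⟩)
      · exact Or.inl (Or.inr (by rw [X_pow_eq_monomial]))
      · exact Or.inr ⟨q, m, a, b, c, rfl⟩
  constructor
  · intro hf j
    rw [Submodule.mem_iInf]
    intro hj
    rw [span_mono_eq _ _ (hR j)]
    intro x hx
    obtain ⟨e, he', hle⟩ := hf x hx
    rcases he' with ⟨p, q, a, b, c, d, rfl⟩ | ⟨p, q, m, a, b, c, d, rfl⟩
    · rcases ne_or_eq p j with hp | hp
      · exact ⟨_, Or.inl (Or.inl ⟨p, a, b, hp, rfl⟩), le_trans le_self_add hle⟩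
      rcases ne_or_eq q j with hq | hq
      · exact ⟨_, Or.inl (Or.inl ⟨q, c, d, hq, rfl⟩), le_trans le_add_self hle⟩
      exact ⟨_, Or.inl (Or.inr rfl), le_trans (by rw [hp, hq, ← Finsupp.single_add]) hle⟩
    · rcases ne_or_eq p j with hp | hp
      · exact ⟨_, Or.inl (Or.inl ⟨p, a, by omega, hp, rfl⟩), le_trans le_self_add hle⟩
      · exact ⟨_, Or.inr ⟨q, m, hp ▸ b, c, d, rfl⟩, le_trans le_add_self hle⟩
  · intro hf x hx
    have hJ : ∀ j : Fin (n + 1), e1 ≤ j.val → j.val ≤ e2 → ∃ si ∈ TR j, si ≤ x := fun j a b => by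
      have := Submodule.mem_iInf _ |>.mp (hf j) ⟨a, b⟩
      rw [span_mono_eq _ _ (hR j)] at this
      exact this x hx
    obtain ⟨p, hp1, hp2, hpx⟩ : ∃ p : Fin (n + 1), e1 ≤ p.val ∧ p.val ≤ e2 ∧ 1 ≤ x p := by
      obtain ⟨s, hs, hle⟩ := hJ ⟨e2, by omega⟩ he le_rfl
      rcases hs with (⟨i, a, b, c, rfl⟩ | rfl) | ⟨q, m, a, b, c, rfl⟩
      · exact ⟨i, a, b, by simpa using hle i⟩
      · exact ⟨_, he, le_rfl, le_trans one_le_two (by simpa using hle ⟨e2, by omega⟩)⟩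
      · have : e2 < q.val := a
        omega
    obtain ⟨s, hs, hle⟩ := hJ p hp1 hp2
    rcases hs with (⟨i, a, b, c, rfl⟩ | rfl) | ⟨q, m, a, b, c, rfl⟩
    · exact ⟨_, Or.inl ⟨p, i, hp1, hp2, a, b, rfl⟩, (single_add_le c.symm x).mpr ⟨hpx, by simpa using hle i⟩⟩
    · exact ⟨_, Or.inl ⟨p, p, hp1, hp2, hp1, hp2, rfl⟩, by rw [← Finsupp.single_add]; exact hle⟩
    · have hne : p ≠ m := fun h => by subst h; omega
      exact ⟨_, Or.inr ⟨p, q, m, hp1, a, b, c, rfl⟩, (single_add_le hne x).mpr ⟨hpx, by simpa using hle m⟩⟩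

end Groth.Agent.SqFreeDecompLib
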